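import Cfsg.Agent.H364.XR.Crit
import Cfsg.Agent.H634.Quot
import Cfsg.Agent.H649.Transport
import Cfsg.Agent.H508.XR.Defs2

/-!
# S4791 + S4927: the criterion `|A : hull| ≤ d ker` (helper501)

* `row0_of_rat` : `|A : hull| ≤ d ker` for all `A` and `d (p - 1) + 2 ≤ x0(S)` imply `Row0`.
* `x0_congr'` : transport of `x0`, different universes; `x0_quot` : the quotient by a normal `p'`-subgroup.
-/

set_option autoImplicit false
set_option linter.unusedSectionVars false

open Cfsg Subgroup Cfsg.Agent.H508.KB Cfsg.Agent.H674.XZ Cfsg.Agent.H668.XZ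
open scoped ComplexConjugate

namespace Cfsg.Agent.H501.XZ

universe u v

open Cfsg.Agent.Characters.Core
open Cfsg.Agent.Blocks.Local Cfsg.Agent.Blocks.Basic

variable {p : ℕ} {M : Ideal AlgInt}

/-- **the criterion** -/
theorem row0_of_rat [hp : Fact p.Prime] (hM : IsPModular p M) {S : Type u} [Group S] [Finite S] (d : ℕ)
    (h : ∀ (A : Type u) [Group A] [Finite A] (T : Subgroup A) [T.Normal], (S ≃* ↥T) → ¬ p ∣ T.index →
      (hull p T).index ≤ d * ker M T) (hk : d * (p - 1) + 2 ≤ x0 p M S) : Row0 p M S := by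
  intro A _ _ T _ ⟨e⟩ hcen hcop t n ht ⟨g, hg1, hg2⟩
  have h1 := h A T e hcop
  have h7 : x0 p M S = x0 p M ↥T := x0_congr e
  have h8 := x0_le0 T hM hcop
  have h9 := ker_add_kap_le0 T hM hcop
  have h10 : 1 ≤ kap0 p M T := by
    have h11 : Finite (Quotient (orbSetoid0 p M T)) := finite_quot0 T
    have h12 : M.IsPrime := isPrime_of_isPModular hM
    have : Nonempty (Quotient (orbSetoid0 p M T)) := ⟨Quotient.mk _ ⟨⟨fun _ => 1, isIrrCharacter_one⟩, mem0_one ↥T⟩⟩
    exact Nat.card_pos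
  have h11 : p ≤ ker M T * (kap0 p M T - 1) := by
    by_contra hlt
    push Not at hlt
    have h12 : (hull p T).index * (kap0 p M T - 1) ≤ d * (ker M T * (kap0 p M T - 1)) := by
      rw [← mul_assoc]
      exact Nat.mul_le_mul_right _ h1
    have h13 : d * (ker M T * (kap0 p M T - 1)) ≤ d * (p - 1) := Nat.mul_le_mul_left _ (by omega)
    omega
  exact H364.XR.ar1 hp.out.one_lt.le h11 h9 h10 t g n ht ht hg1 hg2

/-- transport of `Mem0` -/
theorem mem0_irrMap {G : Type u} {H : Type v} [Group G] [Group H] (e : G ≃* H) (χ : IrrCharacter G) :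
    Mem0 p M (H649.irrMap e χ) ↔ Mem0 p M χ := by
  have h1 : H649.irrMap e χ ∈ principalBlock M H ↔ χ ∈ principalBlock M G := by
    rw [← H649.blkMap_principalBlock e, H649.irrMap_mem_blkMap]
  have h2 : Alm p (H649.irrMap e χ : H → ℂ) ↔ Alm p (χ : G → ℂ) := by
    constructor
    · rintro ⟨n, h0, h3, h4⟩
      exact ⟨n, h0, h3, fun g => by rw [← H649.irrMap_apply' e χ g]; exact h4 _⟩
    · rintro ⟨n, h0, h3, h4⟩
      exact ⟨n, h0, h3, fun g => h4 _⟩
  unfold Mem0
  rw [h1, h2, H649.charDegree_irrMap]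

/-- transport of `x0` -/
theorem x0_congr' {G : Type u} {H : Type v} [Group G] [Group H] (e : G ≃* H) : x0 p M G = x0 p M H :=
  Nat.card_congr ((H649.irrEquiv e).subtypeEquiv fun χ => (mem0_irrMap e χ).symm)

open H633.Principal H634.Quot in
/-- the quotient by a normal `p'`-subgroup -/
theorem x0_quot [hp : Fact p.Prime] {G : Type u} [Group G] [Finite G] (hM : IsPModular p M) (N : Subgroup G) [N.Normal]
    (hN : ¬ p ∣ Nat.card N) : x0 p M (G ⧸ N) = x0 p M G := by
  have key : ∀ χ : IrrCharacter (G ⧸ N), Mem0 p M (infl N χ) ↔ Mem0 p M χ := by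
    intro χ
    have h1 : infl N χ ∈ principalBlock M G ↔ χ ∈ principalBlock M (G ⧸ N) := by
      constructor
      · intro h
        rw [← image_infl hM N hN] at h
        obtain ⟨χ', h2, h3⟩ := h
        rwa [← infl_injective N h3]
      · intro h
        rw [← image_infl hM N hN]
        exact ⟨χ, h, rfl⟩
    have h2 : Alm p (infl N χ : G → ℂ) ↔ Alm p (χ : G ⧸ N → ℂ) := by
      constructor
      · rintro ⟨n, h0, h3, h4⟩
        refine ⟨n, h0, h3, fun g => ?_⟩
        induction g using QuotientGroup.induction_on with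
        | H g => exact h4 g
      · rintro ⟨n, h0, h3, h4⟩
        exact ⟨n, h0, h3, fun g => h4 _⟩
    have h3 : charDegree (infl N χ : G → ℂ) = charDegree (χ : G ⧸ N → ℂ) := rfl
    unfold Mem0
    rw [h1, h2, h3]
  refine Nat.card_congr (Equiv.ofBijective (fun χ => (⟨infl N χ.1, (key χ.1).2 χ.2⟩ : {χ : IrrCharacter G // Mem0 p M χ})) ⟨?_, ?_⟩)
  · intro χ χ' h
    exact Subtype.ext (infl_injective N (congrArg Subtype.val h))
  · rintro ⟨ψ, hψ⟩
    have h1 := hψ.1
    rw [← image_infl hM N hN] at h1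
    obtain ⟨χ, h2, h3⟩ := h1
    subst h3
    exact ⟨⟨χ, (key χ).1 hψ⟩, rfl⟩

end Cfsg.Agent.H501.XZ
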