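import Cfsg.Agent.H501.XZ.Pl

/-!
# `p`-elements on four planes (helper501, S4791 + S4927, `PΩ₈⁺`)

* `Gen.exists_dz` : the `p`-elements which commute with the elements `g` on the planes;
* `Gen.conj` : conjugates of `g` on one plane.
-/

set_option autoImplicit false
set_option linter.unusedSectionVars false

open QuadraticMap Module Cfsg Cfsg.Agent.LieClassical.OrthCore
open Cfsg.Agent.H587.KB8

namespace Cfsg.Agent.H501.XZ

/-- a generator of a Sylow `p`-subgroup of `SL₂` -/
structure Gen {F : Type} [Field F] (p : ℕ) (g : SL F) : Prop where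
  odd : p ≠ 2
  ne : (p : F) ≠ 0
  ord : ∃ a, 1 ≤ a ∧ orderOf g = p ^ a
  cen : ∀ y : SL F, (∃ n : ℕ, y ^ p ^ n = 1) → y * g = g * y → ∃ k : ℕ, y = g ^ k

abbrev WW (F : Type) := Fin 4 → (Fin 2 → F)

variable {F : Type} [Field F] {p : ℕ} [hp : Fact p.Prime] {g : SL F}

namespace Gen

theorem pow_ne (h : Gen p g) (a : ℕ) : ((p ^ a : ℕ) : F) ≠ 0 := by
  rw [Nat.cast_pow]
  exact pow_ne_zero _ h.ne

theorem ne_one (h : Gen p g) : g ≠ 1 := by
  rintro rfl
  obtain ⟨a, h1, h2⟩ := h.ord
  rw [orderOf_one] at h2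
  exact (Nat.one_lt_pow (by omega) hp.out.one_lt).ne h2

theorem sq_ne_one (h : Gen p g) : g ^ 2 ≠ 1 := by
  intro h0
  obtain ⟨a, h1, h2⟩ := h.ord
  have h3 := orderOf_dvd_of_pow_eq_one h0
  rw [h2] at h3
  have h4 : p ∣ 2 := (dvd_pow_self p (by omega)).trans h3
  exact h.odd ((Nat.prime_dvd_prime_iff_eq hp.out Nat.prime_two).1 h4)

theorem exists_pow (h : Gen p g) : ∃ N : ℕ, (N : F) ≠ 0 ∧ g ^ N = 1 := by
  obtain ⟨a, h1, h2⟩ := h.ord
  exact ⟨p ^ a, h.pow_ne a, by rw [← h2, pow_orderOf_eq_one]⟩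

theorem nondeg (h : Gen p g) : Nondeg (bl g).toQuadraticMap := by
  obtain ⟨N, h1, h2⟩ := h.exists_pow
  exact nondeg_bl' g h1 h2 h.sq_ne_one

end Gen

theorem dz_single_self (i : Fin 4) (w : WW F) : dz g (Pi.single i 1) w i = Matrix.SpecialLinearGroup.toLin' g (w i) := by
  rw [dz_apply, Pi.single_eq_same, pow_one]

theorem dz_single_ne {i j : Fin 4} (hij : j ≠ i) (w : WW F) : dz g (Pi.single i 1) w j = w j := by
  rw [dz_apply, Pi.single_eq_of_ne hij, pow_zero, map_one]
  rfl

theorem dz_mul (f f' : Fin 4 → ℕ) : dz g f * dz g f' = dz g (f + f') := by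
  ext1 w
  ext1 i
  rw [LinearEquiv.mul_apply, dz_apply, dz_apply, dz_apply, Pi.add_apply, pow_add, map_mul, LinearEquiv.mul_apply]

theorem dz_inj {f f' : Fin 4 → ℕ} (h : dz g f = dz g f') (i : Fin 4) : g ^ f i = g ^ f' i := by
  apply toLin_ext
  intro v
  have h1 := congrFun (DFunLike.congr_fun h (Pi.single i v)) i
  rw [dz_apply, dz_apply, Pi.single_eq_same] at h1
  exact h1

theorem dz_congr {f f' : Fin 4 → ℕ} (h : ∀ i, g ^ f i = g ^ f' i) : dz g f = dz g f' := by
  ext1 w
  ext1 i
  rw [dz_apply, dz_apply, h]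

/-- **the `p`-elements commuting with all the planes** -/
theorem Gen.exists_dz (h : Gen p g) (y : WW F ≃ₗ[F] WW F) (hQ : ∀ w, qW g (y w) = qW g w)
    (hy : ∃ n : ℕ, y ^ p ^ n = 1) (hc : ∀ i w, y (dz g (Pi.single i 1) w) = dz g (Pi.single i 1) (y w)) :
    ∃ f, y = dz g f := by
  classical
  obtain ⟨N, hN, hgN⟩ := h.exists_pow
  have hsupp : ∀ (i : Fin 4) (v : Fin 2 → F) (m : Fin 4), m ≠ i → y (Pi.single i v) m = 0 := by
    intro i v m hm
    obtain ⟨v', hv'⟩ := sub_surj hN hgN h.ne_one v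
    have h1 : (Pi.single i v : WW F) = dz g (Pi.single i 1) (Pi.single i v') - Pi.single i v' := by
      ext1 j
      rw [Pi.sub_apply]
      by_cases hj : j = i
      · subst hj
        rw [dz_single_self, Pi.single_eq_same, Pi.single_eq_same, hv']
      · rw [dz_single_ne hj, sub_self, Pi.single_eq_of_ne hj]
    rw [h1, map_sub, hc, Pi.sub_apply, dz_single_ne hm, sub_self]
  let Y : Fin 4 → (Fin 2 → F) →ₗ[F] (Fin 2 → F) := fun i =>
    LinearMap.proj i ∘ₗ y.toLinearMap ∘ₗ LinearMap.single F (fun _ => Fin 2 → F) i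
  have hY : ∀ i v, Y i v = y (Pi.single i v) i := fun i v => rfl
  have hYs : ∀ i v, y (Pi.single i v) = Pi.single i (Y i v) := by
    intro i v
    ext1 j
    by_cases hj : j = i
    · subst hj
      rw [Pi.single_eq_same, hY]
    · rw [hsupp i v j hj, Pi.single_eq_of_ne hj]
  have hYw : ∀ w m, y w m = Y m (w m) := by
    intro w m
    conv_lhs => rw [← Finset.univ_sum_single w, map_sum, Finset.sum_apply]
    rw [Finset.sum_eq_single m]
    · rw [hYs, Pi.single_eq_same]
    · intro j _ hj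
      rw [hYs, Pi.single_eq_of_ne hj.symm]
    · intro h0; exact (h0 (Finset.mem_univ _)).elim
  have hYg : ∀ m v, Y m (Matrix.SpecialLinearGroup.toLin' g v) = Matrix.SpecialLinearGroup.toLin' g (Y m v) := by
    intro m v
    have h1 := congrFun (hc m (Pi.single m v)) m
    rw [hYw, dz_single_self, dz_single_self, hYw, Pi.single_eq_same] at h1
    exact h1
  have hYQ : ∀ m v, bl g (Y m v) (Y m v) = bl g v v := by
    intro m v
    have key : ∀ u, qW g (Pi.single m u) = bl g u u := by
      intro u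
      rw [qW_apply, Finset.sum_eq_single m]
      · rw [Pi.single_eq_same, LinearMap.BilinMap.toQuadraticMap_apply]
      · intro j _ hj
        rw [Pi.single_eq_of_ne hj, QuadraticMap.map_zero]
      · intro h0; exact (h0 (Finset.mem_univ _)).elim
    rw [← key, ← key, ← hYs, hQ]
  -- the matrices
  let A : Fin 4 → Matrix (Fin 2) (Fin 2) F := fun m => LinearMap.toMatrix' (Y m)
  have hA : ∀ m v, Matrix.mulVec (A m) v = Y m v := fun m v => LinearMap.toMatrix'_mulVec (Y m) v
  have hA0 : ∀ m v, (Y m v) 0 = A m 0 0 * v 0 + A m 0 1 * v 1 := by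
    intro m v
    rw [← hA, Matrix.mulVec, dotProduct, Fin.sum_univ_two]
  have hA1 : ∀ m v, (Y m v) 1 = A m 1 0 * v 0 + A m 1 1 * v 1 := by
    intro m v
    rw [← hA, Matrix.mulVec, dotProduct, Fin.sum_univ_two]
  have hbl : ∀ v w, bl g v w = v 0 * (Matrix.SpecialLinearGroup.toLin' g w) 1 - v 1 * (Matrix.SpecialLinearGroup.toLin' g w) 0 := by
    intro v w
    rw [bl_apply, lin_apply, lin_apply]
  obtain ⟨v₀, hv₀⟩ : ∃ v : Fin 2 → F, bl g v v ≠ 0 := by
    by_contra hno
    push Not at hno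
    have h1 : ∀ v : Fin 2 → F, v = 0 := by
      intro v
      refine h.nondeg v fun w => ?_
      rw [polar, LinearMap.BilinMap.toQuadraticMap_apply, LinearMap.BilinMap.toQuadraticMap_apply,
        LinearMap.BilinMap.toQuadraticMap_apply, hno, hno, hno, sub_zero, sub_zero]
    have h2 := congrFun (h1 fun _ => 1) 0
    exact one_ne_zero h2
  have hdet : ∀ m, (A m).det = 1 := by
    intro m
    have h1 := hYQ m v₀
    rw [hbl, ← hYg, hA0, hA1, hA0, hA1] at h1
    have h2 : (A m).det * bl g v₀ v₀ = 1 * bl g v₀ v₀ := by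
      rw [Matrix.det_fin_two, one_mul]
      conv_rhs => rw [← h1]
      rw [hbl]
      ring
    exact mul_right_cancel₀ hv₀ h2
  let B : Fin 4 → SL F := fun m => ⟨A m, hdet m⟩
  have hB : ∀ m v, Matrix.SpecialLinearGroup.toLin' (B m) v = Y m v := by
    intro m v
    rw [Matrix.SpecialLinearGroup.toLin'_apply, Matrix.toLin'_apply]
    exact hA m v
  have hBpow : ∀ (m : Fin 4) (k : ℕ) (v : Fin 2 → F), (y ^ k) (Pi.single m v) =
      Pi.single m (Matrix.SpecialLinearGroup.toLin' (B m ^ k) v) := by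
    intro m k
    induction k with
    | zero => intro v; rw [pow_zero, pow_zero, map_one]; rfl
    | succ k ih =>
      intro v
      rw [pow_succ', LinearEquiv.mul_apply, ih, hYs, pow_succ', map_mul, LinearEquiv.mul_apply, hB]
  have hex : ∀ m, ∃ k : ℕ, B m = g ^ k := by
    intro m
    refine h.cen (B m) ?_ ?_
    · obtain ⟨n, hn⟩ := hy
      refine ⟨n, toLin_ext fun v => ?_⟩
      have h1 := congrFun (hBpow m (p ^ n) v) m
      rw [hn, Pi.single_eq_same] at h1
      rw [← h1, map_one]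
      change (Pi.single m v : WW F) m = v
      rw [Pi.single_eq_same]
    · apply toLin_ext
      intro v
      rw [map_mul, map_mul, LinearEquiv.mul_apply, LinearEquiv.mul_apply, hB, hB, hYg]
  choose f hf using hex
  refine ⟨f, ?_⟩
  ext1 w
  ext1 i
  rw [hYw, dz_apply, ← hf, hB]

/-- **the conjugates of the elements on one plane** -/
theorem Gen.conj (h : Gen p g) (u : WW F ≃ₗ[F] WW F) {i : Fin 4} {f : Fin 4 → ℕ}
    (hu : u * dz g (Pi.single i 1) * u⁻¹ = dz g f) :
    ∃ j, dz g f = dz g (Pi.single j 1) ∨ dz g f = (dz g (Pi.single j 1))⁻¹ := by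
  classical
  obtain ⟨N, hN, hgN⟩ := h.exists_pow
  have hpw : ∀ k, (g ^ k) ^ N = 1 := fun k => by rw [← pow_mul, mul_comm, pow_mul, hgN, one_pow]
  -- the images
  have himg : ∀ (w v : WW F), dz g f v - v = w → ∀ m, m ≠ i → (u⁻¹ w) m = 0 := by
    intro w v hv m hm
    have h1 : dz g f v = u (dz g (Pi.single i 1) (u⁻¹ v)) := by
      rw [← hu]; rfl
    have h2 : u⁻¹ w = dz g (Pi.single i 1) (u⁻¹ v) - u⁻¹ v := by
      rw [← hv, map_sub, h1]
      congr 1
      exact u.symm_apply_apply _
    rw [h2, Pi.sub_apply, dz_single_ne hm, sub_self]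
  have hex : ∃ j, g ^ f j ≠ 1 := by
    by_contra hno
    push Not at hno
    have h1 : dz g f = 1 := by
      ext1 w
      ext1 j
      rw [dz_apply, hno, map_one]
      rfl
    rw [h1, mul_inv_eq_one] at hu
    have h2 : dz g (Pi.single i 1) = 1 := mul_left_cancel (hu.trans (mul_one u).symm)
    apply h.ne_one
    apply toLin_ext
    intro v
    have h3 := congrFun (DFunLike.congr_fun h2 (Pi.single i v)) i
    rw [dz_single_self, Pi.single_eq_same] at h3
    rw [h3, map_one]
    change (Pi.single i v : WW F) i = v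
    rw [Pi.single_eq_same]
  obtain ⟨j, hj⟩ := hex
  have huniq : ∀ k, k ≠ j → g ^ f k = 1 := by
    intro k hkj
    by_contra hk
    let L : ((Fin 2 → F) × (Fin 2 → F)) →ₗ[F] (Fin 2 → F) :=
      LinearMap.proj i ∘ₗ (u⁻¹ : WW F ≃ₗ[F] WW F).toLinearMap ∘ₗ
        (LinearMap.coprod (LinearMap.single F (fun _ => Fin 2 → F) j) (LinearMap.single F (fun _ => Fin 2 → F) k))
    have hL : ∀ c, L c = (u⁻¹ ((Pi.single j c.1 : WW F) + Pi.single k c.2)) i := fun c => rfl
    have hinj : Function.Injective L := by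
      rw [← LinearMap.ker_eq_bot, LinearMap.ker_eq_bot']
      intro c hc
      rw [hL] at hc
      obtain ⟨a', ha'⟩ := sub_surj hN (hpw _) hj c.1
      obtain ⟨b', hb'⟩ := sub_surj hN (hpw _) hk c.2
      have h1 : dz g f ((Pi.single j a' : WW F) + Pi.single k b') - ((Pi.single j a' : WW F) + Pi.single k b') =
          (Pi.single j c.1 : WW F) + Pi.single k c.2 := by
        ext1 m
        rw [Pi.sub_apply, dz_apply, Pi.add_apply, Pi.add_apply]
        by_cases hmj : m = j
        · subst hmj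
          rw [Pi.single_eq_same, Pi.single_eq_of_ne hkj.symm, Pi.single_eq_same, Pi.single_eq_of_ne hkj.symm, add_zero,
            add_zero, ha']
        · by_cases hmk : m = k
          · subst hmk
            rw [Pi.single_eq_same, Pi.single_eq_of_ne hmj, Pi.single_eq_same, Pi.single_eq_of_ne hmj, zero_add,
              zero_add, hb']
          · rw [Pi.single_eq_of_ne hmj, Pi.single_eq_of_ne hmk, Pi.single_eq_of_ne hmj, Pi.single_eq_of_ne hmk, add_zero,
              map_zero, sub_zero]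
      have h2 : u⁻¹ ((Pi.single j c.1 : WW F) + Pi.single k c.2) = 0 := by
        ext1 m
        by_cases hm : m = i
        · rw [hm]; exact hc
        · exact himg _ _ h1 m hm
      rw [LinearEquiv.map_eq_zero_iff] at h2
      have h3 := congrFun h2 j
      have h4 := congrFun h2 k
      rw [Pi.add_apply, Pi.single_eq_same, Pi.single_eq_of_ne hkj.symm, add_zero] at h3
      rw [Pi.add_apply, Pi.single_eq_same, Pi.single_eq_of_ne hkj, zero_add] at h4
      exact Prod.ext h3 h4
    have h5 := LinearMap.finrank_le_finrank_of_injective hinj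
    rw [Module.finrank_prod, Module.finrank_fin_fun] at h5
    omega
  refine ⟨j, ?_⟩
  -- the trace
  have htr : tr g 1 = tr g (f j) := by
    have h1 : Ev (cj (LinearEquiv.refl F (WW F)) (dz g (Pi.single i 1))) (tr g 1) :=
      (ev_dz g (LinearEquiv.refl F (WW F)) _ _).2 ⟨i, by rw [Pi.single_eq_same]⟩
    have h2 : Ev (cj (LinearEquiv.refl F (WW F)) (dz g f)) (tr g 1) := by
      refine h1.conj (h := cj (LinearEquiv.refl F (WW F)) u) ?_
      rw [← map_inv, ← map_mul, ← map_mul, hu]
    obtain ⟨m, hm⟩ := (ev_dz g (LinearEquiv.refl F (WW F)) _ _).1 h2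
    by_cases hmj : m = j
    · rw [hm, hmj]
    · exfalso
      rw [tr, tr, huniq m hmj, pow_one] at hm
      simp only [Matrix.SpecialLinearGroup.coe_one, Matrix.one_apply_eq] at hm
      have h3 := eq_or_inv (A := g) (B := 1) hN (by rw [mul_one, one_mul]) (by rw [mul_one]; exact hgN) (by
        rw [hm]; simp only [Matrix.SpecialLinearGroup.coe_one, Matrix.one_apply_eq])
      rw [inv_one, or_self] at h3
      exact h.ne_one h3
  have hpr := eq_or_inv (A := g ^ f j) (B := g) hN (by rw [← pow_succ, pow_succ']) (by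
    rw [← pow_succ]; exact hpw _) (by
    have h1 := htr.symm
    rw [tr, tr, pow_one] at h1
    exact h1)
  rcases hpr with h1 | h1
  · left
    refine dz_congr fun m => ?_
    by_cases hm : m = j
    · rw [hm, h1, Pi.single_eq_same, pow_one]
    · rw [huniq m hm, Pi.single_eq_of_ne hm, pow_zero]
  · right
    rw [eq_inv_iff_mul_eq_one, dz_mul]
    ext1 w
    ext1 m
    rw [dz_apply, Pi.add_apply, pow_add]
    by_cases hm : m = j
    · rw [hm, h1, Pi.single_eq_same, pow_one, inv_mul_cancel, map_one]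
      rfl
    · rw [huniq m hm, Pi.single_eq_of_ne hm, pow_zero, mul_one, map_one]
      rfl

end Cfsg.Agent.H501.XZ
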