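import Cfsg.Agent.H501.XZ.TwoY
import Cfsg.Agent.H563.XZ.PO8out
import Cfsg.Agent.H605.XZ.PO8c
import Cfsg.Agent.H587.KB8.Main

/-!
# S4791 + S4927: the row `PΩ₈⁺(q)` (helper501)
-/

set_option autoImplicit false
set_option linter.unusedSectionVars false

open Cfsg Subgroup Cfsg.Agent.H674.XZ Cfsg.Agent.H668.XZ
open Cfsg.Agent.LieClassical.OrthCore Cfsg.Agent.LieClassical.OrthFinite
open Cfsg.Agent.LieClassical.OrthTrans Cfsg.Agent.ClassicalGeometry.OrthAut1 Cfsg.Agent.H587.KB8.Cp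
open Cfsg.Agent.H587.KB8 (cyclic_P index_le not_dvd_center)

namespace Cfsg.Agent.H501.XZ

universe u

theorem dvd_card_of_NC {p : ℕ} [hp : Fact p.Prime] {S : Type*} [Group S] [Finite S]
    (hP : ∀ P : Sylow p S, ¬ IsCyclic (P : Subgroup S)) : p ∣ Nat.card S := by
  by_contra hno
  obtain ⟨R⟩ : Nonempty (Sylow p S) := inferInstance
  obtain ⟨n, hn⟩ := IsPGroup.iff_card.1 R.2
  rcases Nat.eq_zero_or_pos n with h0 | h0
  · rw [h0, pow_zero] at hn
    have : Subsingleton (R : Subgroup S) := (Nat.card_eq_one_iff_unique.1 hn).1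
    exact hP R isCyclic_of_subsingleton
  · exact hno (((dvd_pow_self p h0.ne').trans hn.symm.dvd).trans (Subgroup.card_subgroup_dvd_card _))

/-- non-cyclic Sylow subgroups and isomorphisms -/
theorem not_cyclic_congr {p : ℕ} [hp : Fact p.Prime] {X : Type*} {S : Type*} [Group X] [Group S] (e : X ≃* S)
    (h : ∀ P : Sylow p X, ¬ IsCyclic (P : Subgroup X)) (P : Sylow p S) : ¬ IsCyclic (P : Subgroup S) := by
  intro hP
  have h1 : (P : Subgroup S) ≤ (e : X →* S).range := fun x _ => ⟨e.symm x, e.apply_symm_apply x⟩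
  apply h (P.comapOfInjective (e : X →* S) e.injective h1)
  let f : ↥((P : Subgroup S).comap (e : X →* S)) →* ↥(P : Subgroup S) :=
    { toFun := fun x => ⟨e x.1, x.2⟩
      map_one' := Subtype.ext (map_one e)
      map_mul' := fun x y => Subtype.ext (map_mul e x.1 y.1) }
  have hf : Function.Injective f := fun x y hxy => Subtype.ext (e.injective (congrArg Subtype.val hxy))
  have h2 : IsCyclic ↥((P : Subgroup S).comap (e : X →* S)) := isCyclic_of_injective f hf
  exact h2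

/-- **the row `PΩ₈⁺(q)`** -/
theorem row0_omegaPlus_four {p : ℕ} [Fact p.Prime] {M : Ideal AlgInt} {S : Type u} [Group S] [Finite S]
    {r : ℕ} [Fact r.Prime] (hrp : r ≠ p) (h11 : 11 ≤ p) (hM : IsPModular p M) {F : Type} [Field F]
    [Fintype F] [CharP F r] (e : Nonempty (S ≃* POmega F (quadFormPlus 4 F)))
    (hP : ∀ P : Sylow p S, ¬ IsCyclic (P : Subgroup S)) : Row0 p M S := by
  obtain ⟨e₁⟩ := e
  have hp : p.Prime := Fact.out
  have hr : r.Prime := Fact.out
  have hp2 : p ≠ 2 := by omega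
  have hpF : (p : F) ≠ 0 := by
    intro h0
    rw [CharP.cast_eq_zero_iff F r] at h0
    exact hrp ((Nat.prime_dvd_prime_iff_eq hr hp).1 h0)
  have hfin0 : Finite (POmega F (quadFormPlus 4 F)) := Finite.of_equiv S e₁.toEquiv
  have hNC : ∀ P : Sylow p (POmega F (quadFormPlus 4 F)), ¬ IsCyclic (P : Subgroup (POmega F (quadFormPlus 4 F))) :=
    not_cyclic_congr e₁ hP
  have hInt : H687.XR.IntMem p M (POmega F (quadFormPlus 4 F)) :=
    H687.XR.exists_of_rowZ hM (H287.OC.rowInt_oplus_four hp2 hpF hNC (dvd_card_of_NC hNC)).rowZ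
  have hG : Good (LieClassical.QuadForms.plusForm 4 F) := Cfsg.Agent.AutOrth.Main.good_plus (by norm_num)
  have e₀ : POmega F (quadFormPlus 4 F) ≃* P (LieClassical.QuadForms.plusForm 4 F) := by
    rw [← LieClassical.QuadForms.coe_plusForm]
    exact Cfsg.Agent.AutOrth.Main.pe hG
  let e₂ : S ≃* P (LieClassical.QuadForms.plusForm 4 F) := e₁.trans e₀
  have hfin : Finite (P (LieClassical.QuadForms.plusForm 4 F)) := Finite.of_equiv S e₂.toEquiv
  have hfinV : Finite ((Fin 4 ⊕ Fin 4 → F) ≃ₗ[F] (Fin 4 ⊕ Fin 4 → F)) :=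
    Finite.of_injective (fun g : (Fin 4 ⊕ Fin 4 → F) ≃ₗ[F] (Fin 4 ⊕ Fin 4 → F) =>
      (g : (Fin 4 ⊕ Fin 4 → F) → (Fin 4 ⊕ Fin 4 → F))) DFunLike.coe_injective
  have hfE : Finite ↥(E (LieClassical.QuadForms.plusForm 4 F)) := inferInstance
  have hIntE : H687.XR.IntMem p M ↥(E (LieClassical.QuadForms.plusForm 4 F)) :=
    IntMem.of_quot hM (center ↥(E (LieClassical.QuadForms.plusForm 4 F))) (IntMem.congr e₀ hInt)
  have hx : x0 p M S = x0 p M ↥(E (LieClassical.QuadForms.plusForm 4 F)) :=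
    (x0_congr' e₂).trans (x0_quot hM _ (not_dvd_center hG hp2))
  have hdiv : p ∣ Fintype.card F ^ 4 - 1 := by
    by_contra hno
    obtain ⟨R, hR⟩ := cyclic_P h11 hpF hno
    apply hP (R.mapSurjective (f := e₂.symm.toMonoidHom) e₂.symm.surjective)
    have h2 : ((R.mapSurjective (f := e₂.symm.toMonoidHom) e₂.symm.surjective : Sylow p S) : Subgroup S) =
        (R : Subgroup (P (LieClassical.QuadForms.plusForm 4 F))).map e₂.symm.toMonoidHom := rfl
    rw [h2]
    exact isCyclic_of_surjective _ (e₂.symm.toMonoidHom.subgroupMap_surjective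
      (R : Subgroup (P (LieClassical.QuadForms.plusForm 4 F))))
  have hq : Fintype.card F ^ 4 - 1 = (Fintype.card F ^ 2 - 1) * (Fintype.card F ^ 2 + 1) := by
    obtain ⟨k, hk⟩ := Nat.exists_eq_add_of_le (Nat.one_le_pow 2 _ (Fintype.card_pos (α := F)))
    have h2 : Fintype.card F ^ 4 = (Fintype.card F ^ 2) ^ 2 := by ring
    rw [h2, hk, show 1 + k - 1 = k by omega]
    have h3 : (1 + k) ^ 2 = k * (1 + k + 1) + 1 := by ring
    rw [h3, Nat.add_sub_cancel]
  rw [hq] at hdiv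
  have hx2 : 2 * p ≤ x0 p M S := by
    rw [hx]
    rcases hp.dvd_mul.1 hdiv with h1 | h1
    · exact two_x0 h11 h1 hpF hM hIntE
    · exact Cfsg.Agent.H605.PO8.four_x0 h11 h1 hM
  obtain ⟨R, hR⟩ : ∃ R : Sylow p (P (LieClassical.QuadForms.plusForm 4 F)),
      (2 : F) = 0 ∨ ∃ a ∈ Cfsg.Agent.H587.KB8.fixOut R, ∃ b, a * b ≠ b * a := by
    by_cases h2 : (2 : F) = 0
    · obtain ⟨R⟩ : Nonempty (Sylow p (P (LieClassical.QuadForms.plusForm 4 F))) := inferInstance
      exact ⟨R, Or.inl h2⟩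
    · rcases hp.dvd_mul.1 hdiv with h1 | h1
      · obtain ⟨R, hR⟩ := Cfsg.Agent.H563.XZ.PO8out.exists_noncentral_two h2 h11 hpF h1
        exact ⟨R, Or.inr hR⟩
      · obtain ⟨R, hR⟩ := Cfsg.Agent.H587.KB8.exists_noncentral h2 h11 h1
        exact ⟨R, Or.inr hR⟩
  refine row0_of_rat hM 2 (fun A _ _ T _ e₄ hcop => ?_) (by omega)
  exact index_le T (e₂.symm.trans e₄) hM hcop R (rat_out_two _ hR)

end Cfsg.Agent.H501.XZ
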