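import Cfsg.Agent.H587.KB8.Two
import Cfsg.Agent.H754.Co3.SLTwo

/-!
# Elements of order `p ^ a` of `SL₂(q)`, `p ∣ q² - 1` (helper501, S4791 + S4927, `PΩ₈⁺`)
-/

set_option autoImplicit false
set_option linter.unusedSectionVars false

open QuadraticMap Module Cfsg Cfsg.Agent.LieClassical.OrthCore
open Cfsg.Agent.H587.KB8

namespace Cfsg.Agent.H501.XZ

section plane

variable {F : Type*} [Field F]

abbrev SL (F : Type*) [Field F] := Matrix.SpecialLinearGroup (Fin 2) F

/-- the generator of a Sylow `p`-subgroup -/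
theorem exists_gen [Finite F] {p : ℕ} [hp : Fact p.Prime] (hp2 : p ≠ 2) (hpF : (p : F) ≠ 0)
    (hd : p ∣ Nat.card (SL F)) :
    ∃ (g : SL F) (a : ℕ), 1 ≤ a ∧ orderOf g = p ^ a ∧
      ∀ y : SL F, (∃ n : ℕ, y ^ p ^ n = 1) → y * g = g * y → ∃ k : ℕ, y = g ^ k := by
  obtain ⟨R⟩ : Nonempty (Sylow p (SL F)) := inferInstance
  have hcyc : IsCyclic (R : Subgroup (SL F)) := by
    refine H754.Co3.cyclic_of_sl2 (k := AlgebraicClosure F) hp2 ?_ R.2
      ((Matrix.SpecialLinearGroup.map (algebraMap F (AlgebraicClosure F))).comp (R : Subgroup (SL F)).subtype) ?_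
    · intro h
      apply hpF
      apply (algebraMap F (AlgebraicClosure F)).injective
      rw [map_natCast, map_zero]
      exact h
    · intro x y h
      apply Subtype.ext
      apply Subtype.ext
      ext i j
      apply (algebraMap F (AlgebraicClosure F)).injective
      have h1 := congrArg (fun A : Matrix.SpecialLinearGroup (Fin 2) (AlgebraicClosure F) => A.1 i j) h
      exact h1
  obtain ⟨g, hg⟩ := IsCyclic.exists_generator (α := (R : Subgroup (SL F)))
  have ho : orderOf g = Nat.card (R : Subgroup (SL F)) := orderOf_eq_card_of_forall_mem_zpowers hg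
  obtain ⟨a, ha⟩ := IsPGroup.iff_card.1 R.2
  have hzp : ∀ r : (R : Subgroup (SL F)), ∃ k : ℕ, r = g ^ k := by
    intro r
    obtain ⟨k, hk⟩ := mem_powers_iff_mem_zpowers.2 (hg r)
    exact ⟨k, hk.symm⟩
  refine ⟨(g : SL F), a, ?_, ?_, ?_⟩
  · rcases Nat.eq_zero_or_pos a with h0 | h0
    · exfalso
      have h1 := R.dvd_card_of_dvd_card hd
      rw [ha, h0, pow_zero] at h1
      exact hp.out.one_lt.ne' (Nat.dvd_one.1 h1)
    · exact h0
  · rw [Subgroup.orderOf_coe, ho, ha]
  · rintro y ⟨n, hn⟩ hc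
    have hz : IsPGroup p (Subgroup.zpowers y) := by
      obtain ⟨m, -, hm⟩ := (Nat.dvd_prime_pow hp.out).1 (orderOf_dvd_of_pow_eq_one hn)
      exact IsPGroup.of_card (n := m) (by rw [Nat.card_zpowers, hm])
    have h1 : y ∈ Subgroup.normalizer ((R : Subgroup (SL F)) : Set (SL F)) := by
      rw [Subgroup.mem_normalizer_iff]
      have key : ∀ r ∈ (R : Subgroup (SL F)), y * r * y⁻¹ = r := by
        intro r hr
        obtain ⟨k, hk⟩ := hzp ⟨r, hr⟩
        have h2 : r = (g : SL F) ^ k := congrArg Subtype.val hk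
        have h3 : Commute y ((g : SL F) ^ k) := (show Commute y (g : SL F) from hc).pow_right k
        rw [h2, h3.eq, mul_inv_cancel_right]
      intro r
      constructor
      · intro hr
        rw [key r hr]
        exact hr
      · intro hr
        have h2 := key _ hr
        have h3 : y * r * y⁻¹ = r := by
          have h4 : y * (y * r * y⁻¹) * y⁻¹ = y * r * y⁻¹ := h2
          have h5 : y * r * y⁻¹ = r := by
            have := mul_right_cancel h4
            exact mul_left_cancel this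
          exact h5
        rwa [h3] at hr
    have h2 : y ∈ (R : Subgroup (SL F)) := by
      have h3 := hz.inf_normalizer_sylow R
      exact (h3.le (show y ∈ Subgroup.zpowers y ⊓ Subgroup.normalizer (R : Set (SL F)) from
        ⟨Subgroup.mem_zpowers y, h1⟩)).2
    obtain ⟨k, hk⟩ := hzp ⟨y, h2⟩
    exact ⟨k, congrArg Subtype.val hk⟩

/-- elements with a fixed vector -/
theorem eq_one_of_fix {A : SL F} {N : ℕ} (hN : (N : F) ≠ 0) (hA : A ^ N = 1) {v : Fin 2 → F} (hv : v ≠ 0)
    (h : Matrix.SpecialLinearGroup.toLin' A v = v) : A = 1 := by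
  apply Subtype.ext
  refine H754.Co3.eq_one_of_fix A.2 hv ?_ hN ?_
  · rw [Matrix.SpecialLinearGroup.toLin'_apply, Matrix.toLin'_apply] at h
    exact h
  · exact congrArg Subtype.val hA

theorem fix_zero' {A : SL F} {N : ℕ} (hN : (N : F) ≠ 0) (hA : A ^ N = 1) (hA1 : A ≠ 1) {v : Fin 2 → F}
    (h : Matrix.SpecialLinearGroup.toLin' A v = v) : v = 0 := by
  by_contra hv
  exact hA1 (eq_one_of_fix hN hA hv h)

/-- `A - 1` is surjective -/
theorem sub_surj {A : SL F} {N : ℕ} (hN : (N : F) ≠ 0) (hA : A ^ N = 1) (hA1 : A ≠ 1) (v : Fin 2 → F) :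
    ∃ w, Matrix.SpecialLinearGroup.toLin' A w - w = v := by
  let L : (Fin 2 → F) →ₗ[F] (Fin 2 → F) := (Matrix.SpecialLinearGroup.toLin' A).toLinearMap - LinearMap.id
  have hL : Function.Injective L := by
    rw [← LinearMap.ker_eq_bot, LinearMap.ker_eq_bot']
    intro w hw
    exact fix_zero' hN hA hA1 (sub_eq_zero.1 hw)
  obtain ⟨w, hw⟩ := (LinearMap.injective_iff_surjective.1 hL) v
  exact ⟨w, hw⟩

theorem toLin_ext {A B : SL F} (h : ∀ v, Matrix.SpecialLinearGroup.toLin' A v = Matrix.SpecialLinearGroup.toLin' B v) :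
    A = B := by
  apply Subtype.ext
  ext i j
  have h1 := congrFun (h (Pi.single j 1)) i
  rw [lin_apply, lin_apply] at h1
  fin_cases i <;> fin_cases j <;> simpa [Pi.single_apply] using h1

/-- commuting elements with the same trace -/
theorem eq_or_inv {A B : SL F} {N : ℕ} (hN : (N : F) ≠ 0) (hc : A * B = B * A) (hAB : (A * B) ^ N = 1)
    (ht : A.1 0 0 + A.1 1 1 = B.1 0 0 + B.1 1 1) : A = B ∨ A = B⁻¹ := by
  by_cases h1 : A * B = 1
  · right
    exact eq_inv_of_mul_eq_one_left h1
  · left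
    apply toLin_ext
    intro v
    have h2 := add_inv A v
    have h3 := add_inv B v
    rw [ht, ← h3] at h2
    rw [← sub_eq_zero]
    refine fix_zero' hN hAB h1 ?_
    have h4 : Matrix.SpecialLinearGroup.toLin' A v - Matrix.SpecialLinearGroup.toLin' B v =
        (Matrix.SpecialLinearGroup.toLin' B)⁻¹ v - (Matrix.SpecialLinearGroup.toLin' A)⁻¹ v := by
      rw [sub_eq_sub_iff_add_eq_add, h2, add_comm]
    have h5 : Matrix.SpecialLinearGroup.toLin' (A * B) ((Matrix.SpecialLinearGroup.toLin' B)⁻¹ v) =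
        Matrix.SpecialLinearGroup.toLin' A v := by
      rw [map_mul, LinearEquiv.mul_apply]
      exact congrArg _ ((Matrix.SpecialLinearGroup.toLin' B).apply_symm_apply v)
    have h6 : Matrix.SpecialLinearGroup.toLin' (A * B) ((Matrix.SpecialLinearGroup.toLin' A)⁻¹ v) =
        Matrix.SpecialLinearGroup.toLin' B v := by
      rw [hc, map_mul, LinearEquiv.mul_apply]
      exact congrArg _ ((Matrix.SpecialLinearGroup.toLin' A).apply_symm_apply v)
    conv_lhs => rw [h4, map_sub, h5, h6]

theorem nondeg_bl' (g : SL F) {N : ℕ} (hN : (N : F) ≠ 0) (hg : g ^ N = 1) (hg2 : g ^ 2 ≠ 1) :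
    Nondeg (bl g).toQuadraticMap := by
  intro v hv
  have hpol : ∀ w, polar (bl g).toQuadraticMap v w = bl g v w + bl g w v := by
    intro w
    simp only [polar, LinearMap.BilinMap.toQuadraticMap_apply, map_add, LinearMap.add_apply]
    ring
  have h1 := hv (Pi.single 0 1)
  have h2 := hv (Pi.single 1 1)
  rw [hpol, bl_apply, bl_apply] at h1 h2
  simp only [Pi.single_apply, Fin.isValue, if_true, if_false, one_ne_zero, zero_ne_one, mul_one, mul_zero, add_zero,
    zero_add, one_mul, zero_mul, sub_zero, zero_sub] at h1 h2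
  refine fix_zero' (A := g ^ 2) hN (by rw [← pow_mul, mul_comm, pow_mul, hg, one_pow]) hg2 ?_
  have h3 := det_eq g
  rw [pow_two, map_mul, LinearEquiv.mul_apply]
  ext i
  fin_cases i
  · simp only [Fin.zero_eta, lin_apply]
    linear_combination v 0 * h3 - g.1 0 0 * h2 + g.1 0 1 * h1
  · simp only [Fin.mk_one, lin_apply]
    linear_combination v 1 * h3 - g.1 1 0 * h2 + g.1 1 1 * h1

end plane

end Cfsg.Agent.H501.XZ
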