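import Cfsg.Agent.H501.XZ.Form
import Cfsg.Agent.H603.AP.Wrap
import Cfsg.Agent.H308.LemB

/-!
# The Sylow `p`-subgroup of `Ω₈⁺(q)`, `p ∣ q² - 1`, and its invariant power sums (helper501, S4791 + S4927)

* `exists_syl`, `Cfg` : `P` consists of the `cj ψ (dz g f)`;
* `Cfg.winv` : `l ↦ ∑ᵢ (ev l γᵢ) ^ k` is `N(P)`-invariant for even `k`; `Cfg.exists_ll`.
-/

set_option autoImplicit false
set_option linter.unusedSectionVars false

open QuadraticMap Module Cfsg Cfsg.Agent.LieClassical.OrthCore Cfsg.Agent.LieClassical.OrthTrans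
open Cfsg.Agent.LieClassical.OrthFinite Cfsg.Agent.ClassicalGeometry
open Cfsg.Agent.ClassicalGeometry.OrthAut1 Cfsg.Agent.H603.AP
open Cfsg.Agent.H587.KB8 (cj_injective bl qW dz dz_apply dz_pow qW_dz)

namespace Cfsg.Agent.H501.XZ

variable {F : Type} [Field F] [Fintype F] {p : ℕ} [hp : Fact p.Prime] {g : SL F}
  {Q : QuadraticForm F (Fin 4 ⊕ Fin 4 → F)} {ψ : WW F ≃ₗ[F] (Fin 4 ⊕ Fin 4 → F)}

local notation "cjj" => Cfsg.Agent.H587.KB8.cj

theorem Gen.mem_E (h : Gen p g) (hG : Good Q) (hψ : ∀ w, Q (ψ w) = qW g w) (f : Fin 4 → ℕ) : cjj ψ (dz g f) ∈ E Q := by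
  obtain ⟨a, h1, h2⟩ := h.ord
  refine Cfsg.Agent.H587.KB8.mem_E_of_odd hG (fun v => ?_) ((hp.out.odd_of_ne_two h.odd).pow (n := a)) (by
    rw [← map_pow, dz_pow g (by rw [← h2, pow_orderOf_eq_one]), map_one])
  obtain ⟨w, rfl⟩ := ψ.surjective v
  rw [Cfsg.Agent.H587.KB8.cj_apply, hψ, hψ, qW_dz]

/-- the pull back of an element -/
theorem exists_cj (x : (Fin 4 ⊕ Fin 4 → F) ≃ₗ[F] (Fin 4 ⊕ Fin 4 → F)) : ∃ y : WW F ≃ₗ[F] WW F, cjj ψ y = x := by
  refine ⟨(ψ.trans x).trans ψ.symm, ?_⟩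
  ext1 v
  obtain ⟨w, rfl⟩ := ψ.surjective v
  rw [Cfsg.Agent.H587.KB8.cj_apply]
  change ψ (ψ.symm (x (ψ w))) = x (ψ w)
  rw [LinearEquiv.apply_symm_apply]

/-- the configuration -/
structure Cfg (p : ℕ) [Fact p.Prime] (g : SL F) (Q : QuadraticForm F (Fin 4 ⊕ Fin 4 → F))
    (ψ : WW F ≃ₗ[F] (Fin 4 ⊕ Fin 4 → F)) (P : Sylow p ↥(E Q)) : Prop where
  gen : Gen p g
  good : Good Q
  iso : ∀ w, Q (ψ w) = qW g w
  mem : ∀ x : ↥(E Q), (∃ f, x.1 = cjj ψ (dz g f)) → x ∈ (P : Subgroup ↥(E Q))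
  comm : ∀ x ∈ P, ∀ y ∈ P, x * y = y * x
  form : ∀ x ∈ P, ∃ f, x.1 = cjj ψ (dz g f)

theorem exists_syl [Finite ↥(E Q)] (h8 : 8 < p) (h : Gen p g) (hG : Good Q) (hψ : ∀ w, Q (ψ w) = qW g w) :
    ∃ P : Sylow p ↥(E Q), Cfg p g Q ψ P := by
  obtain ⟨a, h1, h2⟩ := h.ord
  have hgN : g ^ p ^ a = 1 := by rw [← h2, pow_orderOf_eq_one]
  have hpos : 1 ≤ p ^ a := Nat.one_le_pow _ _ hp.out.pos
  let D : Subgroup ↥(E Q) :=
    { carrier := {x | ∃ f, x.1 = cjj ψ (dz g f)}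
      one_mem' := ⟨0, by
        have h3 : dz g 0 = 1 := by
          ext1 w
          ext1 i
          rw [dz_apply, Pi.zero_apply, pow_zero, map_one]
          rfl
        rw [h3, map_one]
        rfl⟩
      mul_mem' := by
        rintro x y ⟨f, hf⟩ ⟨f', hf'⟩
        refine ⟨f + f', ?_⟩
        change x.1 * y.1 = _
        rw [hf, hf', ← map_mul, dz_mul]
      inv_mem' := by
        rintro x ⟨f, hf⟩
        refine ⟨fun i => (p ^ a - 1) * f i, ?_⟩
        change x.1⁻¹ = _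
        rw [inv_eq_iff_mul_eq_one, hf, ← map_mul, dz_mul]
        have h3 : dz g (f + fun i => (p ^ a - 1) * f i) = 1 := by
          ext1 w
          ext1 i
          have h4 : (f + fun i => (p ^ a - 1) * f i) i = p ^ a * f i := by
            rw [Pi.add_apply]
            obtain ⟨k, hk⟩ := Nat.exists_eq_add_of_le hpos
            rw [hk, Nat.add_sub_cancel_left]
            ring
          rw [dz_apply, h4, pow_mul, hgN, one_pow, map_one]
          rfl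
        rw [h3, map_one] }
  have hD : IsPGroup p D := by
    rintro ⟨x, f, hf⟩
    refine ⟨a, ?_⟩
    apply Subtype.ext
    apply Subtype.ext
    change x.1 ^ p ^ a = 1
    rw [hf, ← map_pow, dz_pow g hgN, map_one]
  obtain ⟨P, hP⟩ := hD.exists_le_sylow
  have hab : ∀ x ∈ P, ∀ y ∈ P, x * y = y * x := by
    intro x hx y hy
    let ρ : ↥(P : Subgroup ↥(E Q)) →* Module.End F (Fin 4 ⊕ Fin 4 → F) :=
      (LinearEquiv.automorphismGroup.toLinearMapMonoidHom (R := F) (M := Fin 4 ⊕ Fin 4 → F)).comp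
        ((E Q).subtype.comp (P : Subgroup ↥(E Q)).subtype)
    have hρ : Function.Injective ρ := by
      intro a b hab
      apply Subtype.ext
      apply Subtype.ext
      ext1 v
      exact LinearMap.congr_fun hab v
    have h3 := Cfsg.Agent.H308.LemB.pgroup_comm_of_finrank_lt ρ hρ hp.out P.2 h.ne (by
      rw [Module.finrank_fintype_fun_eq_card]
      simp
      omega) ⟨x, hx⟩ ⟨y, hy⟩
    exact congrArg Subtype.val h3
  refine ⟨P, h, hG, hψ, fun x hx => hP hx, hab, ?_⟩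
  intro x hx
  obtain ⟨y, hy⟩ := exists_cj (ψ := ψ) x.1
  have e1 : ∀ w, qW g (y w) = qW g w := by
    intro w
    rw [← hψ, ← hψ, ← Cfsg.Agent.H587.KB8.cj_apply, hy]
    exact E_le_O x.2 _
  have e2 : ∃ n : ℕ, y ^ p ^ n = 1 := by
    obtain ⟨n, hn⟩ := P.2 ⟨x, hx⟩
    refine ⟨n, ?_⟩
    apply cj_injective ψ
    rw [map_pow, hy, map_one]
    have h3 := congrArg Subtype.val (congrArg Subtype.val hn)
    exact h3
  have e3 : ∀ i w, y (dz g (Pi.single i 1) w) = dz g (Pi.single i 1) (y w) := by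
    intro i w
    have h3 : x * ⟨cjj ψ (dz g (Pi.single i 1)), h.mem_E hG hψ _⟩ = ⟨cjj ψ (dz g (Pi.single i 1)), h.mem_E hG hψ _⟩ * x :=
      hab x hx _ (hP ⟨_, rfl⟩)
    have h4 : x.1 * cjj ψ (dz g (Pi.single i 1)) = cjj ψ (dz g (Pi.single i 1)) * x.1 := congrArg Subtype.val h3
    rw [← hy, ← map_mul, ← map_mul] at h4
    exact DFunLike.congr_fun (cj_injective ψ h4) w
  obtain ⟨f, hf⟩ := h.exists_dz y e1 e2 e3
  exact ⟨f, by rw [← hy, hf]⟩

namespace Cfg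

variable {P : Sylow p ↥(E Q)} (C : Cfg p g Q ψ P)

include C

/-- the elements on one plane -/
noncomputable def ga (i : Fin 4) : P := ⟨⟨cjj ψ (dz g (Pi.single i 1)), C.gen.mem_E C.good C.iso _⟩, C.mem _ ⟨_, rfl⟩⟩

theorem ga_coe (i : Fin 4) : ((C.ga i : ↥(E Q)) : (Fin 4 ⊕ Fin 4 → F) ≃ₗ[F] (Fin 4 ⊕ Fin 4 → F)) = cjj ψ (dz g (Pi.single i 1)) := rfl

theorem ga_conj {n : ↥(E Q)} (hn : n ∈ Subgroup.normalizer ((P : Subgroup ↥(E Q)) : Set ↥(E Q))) (i : Fin 4) :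
    ∃ j, n * (C.ga i : ↥(E Q)) * n⁻¹ = C.ga j ∨ n * (C.ga i : ↥(E Q)) * n⁻¹ = ((C.ga j)⁻¹ : P) := by
  obtain ⟨u, hu⟩ := exists_cj (ψ := ψ) n.1
  have h1 : n * (C.ga i : ↥(E Q)) * n⁻¹ ∈ (P : Subgroup ↥(E Q)) := (Subgroup.mem_normalizer_iff.1 hn _).1 (C.ga i).2
  obtain ⟨f, hf⟩ := C.form _ h1
  have h2 : (n * (C.ga i : ↥(E Q)) * n⁻¹).1 = cjj ψ (u * dz g (Pi.single i 1) * u⁻¹) := by
    rw [map_mul, map_mul, map_inv, hu]
    rfl
  have h3 : u * dz g (Pi.single i 1) * u⁻¹ = dz g f := cj_injective ψ (by rw [← h2, hf])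
  obtain ⟨j, hj⟩ := C.gen.conj u h3
  refine ⟨j, ?_⟩
  rcases hj with hj | hj
  · left
    apply Subtype.ext
    rw [hf, hj]
    rfl
  · right
    apply Subtype.ext
    rw [hf, hj, map_inv]
    rfl

theorem ga_ne {i j : Fin 4} (hij : i ≠ j) : C.ga i ≠ C.ga j ∧ C.ga i ≠ (C.ga j)⁻¹ := by
  have key : ∀ w : WW F, (∀ i, w i = fun _ => 1) → True := fun _ _ => trivial
  constructor
  · intro h
    have h1 : cjj ψ (dz g (Pi.single i 1)) = cjj ψ (dz g (Pi.single j 1)) := congrArg (fun z : P => z.1.1) h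
    have h2 := dz_inj (cj_injective ψ h1) i
    rw [Pi.single_eq_same, Pi.single_eq_of_ne hij, pow_one, pow_zero] at h2
    exact C.gen.ne_one h2
  · intro h
    have h1 : cjj ψ (dz g (Pi.single i 1)) = (cjj ψ (dz g (Pi.single j 1)))⁻¹ := congrArg (fun z : P => z.1.1) h
    rw [eq_inv_iff_mul_eq_one, ← map_mul, dz_mul] at h1
    have h3 : dz g (Pi.single i 1 + Pi.single j 1) = dz g 0 := by
      apply cj_injective ψ
      rw [h1]
      have h4 : dz g 0 = 1 := by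
        ext1 w
        ext1 m
        rw [dz_apply, Pi.zero_apply, pow_zero, map_one]
        rfl
      rw [h4, map_one]
    have h2 := dz_inj h3 i
    rw [Pi.add_apply, Pi.single_eq_same, Pi.single_eq_of_ne hij, add_zero, pow_one, Pi.zero_apply, pow_zero] at h2
    exact C.gen.ne_one h2

/-- the power sums -/
noncomputable def sk (k : ℕ) (l : LL p P) : ZMod p := ∑ i, ev l (C.ga i) ^ k

theorem sk_mem (k : ℕ) : C.sk k ∈ Pol p P k := Pol_sum _ fun i _ => evpow_mem (C.ga i) k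

theorem sk_winv [Finite ↥(E Q)] {k : ℕ} (hk : Even k) : WInv P (C.sk k) := by
  intro n hn l l' hl
  have hch := fun i => C.ga_conj hn i
  choose σ hσ using hch
  have h1 : ∀ i, ev l' (C.ga (σ i)) ^ k = ev l (C.ga i) ^ k := by
    intro i
    rcases hσ i with h2 | h2
    · rw [hl (C.ga i) (C.ga (σ i)) h2]
    · have h3 := hl (C.ga i) (C.ga (σ i))⁻¹ h2
      have h4 : ev l' (C.ga (σ i))⁻¹ = - ev l' (C.ga (σ i)) := by
        have h5 := ev_mul l' (C.ga (σ i)) (C.ga (σ i))⁻¹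
        rw [mul_inv_cancel, ev_one] at h5
        exact (neg_eq_of_add_eq_zero_right h5.symm).symm
      rw [← h3, h4, hk.neg_pow]
  have hinj : Function.Injective σ := by
    intro i i' hii
    by_contra hne
    obtain ⟨h2, h3⟩ := C.ga_ne hne
    have hc : ∀ x y : ↥(E Q), n * x * n⁻¹ = n * y * n⁻¹ → x = y := fun x y hxy => mul_left_cancel (mul_right_cancel hxy)
    have hinv : ∀ (x y : P), n * (x : ↥(E Q)) * n⁻¹ = (y⁻¹ : P) → n * ((x⁻¹ : P) : ↥(E Q)) * n⁻¹ = y := by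
      intro x y hxy
      have h5 : n * ((x⁻¹ : P) : ↥(E Q)) * n⁻¹ = (n * (x : ↥(E Q)) * n⁻¹)⁻¹ := by
        change n * (x : ↥(E Q))⁻¹ * n⁻¹ = _
        group
      rw [h5, hxy]
      change ((y : ↥(E Q))⁻¹)⁻¹ = y
      rw [inv_inv]
    rcases hσ i with h4 | h4 <;> rcases hσ i' with h5 | h5 <;> rw [← hii] at h5
    · exact h2 (Subtype.ext (hc _ _ (h4.trans h5.symm)))
    · exact h3 (Subtype.ext (hc _ _ (h4.trans (hinv _ _ h5).symm)))
    · have h6 : (C.ga i)⁻¹ = C.ga i' := Subtype.ext (hc _ _ ((hinv _ _ h4).trans h5.symm))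
      exact h3 (by rw [← h6, inv_inv])
    · exact h2 (Subtype.ext (hc _ _ (h4.trans h5.symm)))
  have hbij : Function.Bijective σ := Finite.injective_iff_bijective.1 hinj
  unfold sk
  rw [← (Equiv.ofBijective σ hbij).sum_comp]
  exact Finset.sum_congr rfl fun i _ => h1 i

/-- the characters of exponent `p` -/
theorem exists_ll (x : Fin 4 → ZMod p) : ∃ l : LL p P, ∀ i, ev l (C.ga i) = x i := by
  obtain ⟨a, h1, h2⟩ := C.gen.ord
  have hch := fun y : P => C.form y.1 y.2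
  choose φ hφ using hch
  have hcast : ∀ m n : ℕ, g ^ m = g ^ n → (m : ZMod p) = n := by
    intro m n hmn
    rw [pow_eq_pow_iff_modEq, h2] at hmn
    exact (ZMod.natCast_eq_natCast_iff _ _ _).2 (hmn.of_dvd (dvd_pow_self p (by omega)))
  let l : LL p P := MonoidHom.mk' (fun y => Multiplicative.ofAdd (∑ i, x i * (φ y i : ZMod p))) (by
    intro y z
    rw [← ofAdd_add, ← Finset.sum_add_distrib]
    congr 1
    refine Finset.sum_congr rfl fun i _ => ?_
    rw [← mul_add, ← Nat.cast_add]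
    congr 1
    refine hcast _ _ ?_
    refine dz_inj (f := φ (y * z)) (f' := φ y + φ z) ?_ i
    apply cj_injective ψ
    rw [← dz_mul, map_mul, ← hφ, ← hφ, ← hφ]
    rfl)
  have hl : ∀ y, ev l y = ∑ i, x i * (φ y i : ZMod p) := fun y => rfl
  refine ⟨l, fun i => ?_⟩
  rw [hl]
  have h3 : ∀ j, ((φ (C.ga i) j : ℕ) : ZMod p) = if j = i then 1 else 0 := by
    intro j
    have h4 : dz g (φ (C.ga i)) = dz g (Pi.single i 1) := cj_injective ψ (by rw [← hφ]; rfl)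
    have h5 := hcast _ _ (dz_inj h4 j)
    rw [h5]
    by_cases hj : j = i
    · rw [hj, Pi.single_eq_same, if_pos rfl, Nat.cast_one]
    · rw [Pi.single_eq_of_ne hj, if_neg hj, Nat.cast_zero]
  rw [Finset.sum_congr rfl fun j _ => by rw [h3 j]]
  simp

end Cfg

end Cfsg.Agent.H501.XZ
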