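import Cfsg.Agent.H501.XZ.Syl
import Cfsg.Agent.H501.XZ.Crit
import Cfsg.Agent.H26.XZ.Gal

/-!
# `nr ≥ 2 (p - 1)` for `Ω₈⁺(q)`, `p ∣ q² - 1`, `p ≥ 11` (helper501, S4791 + S4927)

Four independent invariant forms of degree `p - 3` : `s_{p-3}`, `s_{p-5} s_2`, `s_{p-7} s_4`, `s_{p-7} s_2²`.
-/

set_option autoImplicit false
set_option linter.unusedSectionVars false

open QuadraticMap Module Cfsg Cfsg.Agent.LieClassical.OrthCore Cfsg.Agent.LieClassical.OrthTrans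
open Cfsg.Agent.LieClassical.OrthFinite Cfsg.Agent.ClassicalGeometry
open Cfsg.Agent.ClassicalGeometry.OrthAut1 Cfsg.Agent.H603.AP Cfsg.Agent.H674.XZ
open Cfsg.Agent.H587.KB8 (cj_injective bl qW dz dz_apply dz_pow qW_dz)

namespace Cfsg.Agent.H501.XZ

theorem WInv.mul {p : ℕ} [Fact p.Prime] {G : Type*} [Group G] [Finite G] {P : Sylow p G} {f f' : LL p P → ZMod p}
    (h : WInv P f) (h' : WInv P f') : WInv P (f * f') := by
  intro n hn l l' hl
  rw [Pi.mul_apply, Pi.mul_apply, h n hn l l' hl, h' n hn l l' hl]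

variable {F : Type} [Field F] [Fintype F] {p : ℕ} [hp : Fact p.Prime] {g : SL F}
  {Q : QuadraticForm F (Fin 4 ⊕ Fin 4 → F)} {ψ : WW F ≃ₗ[F] (Fin 4 ⊕ Fin 4 → F)} {P : Sylow p ↥(E Q)}

namespace Cfg

/-- the four forms -/
noncomputable def fm (C : Cfg p g Q ψ P) : Fin 4 → LL p P → ZMod p :=
  ![C.sk (p - 3), C.sk (p - 5) * C.sk 2, C.sk (p - 7) * C.sk 4, C.sk (p - 7) * (C.sk 2 * C.sk 2)]

theorem fm_mem (C : Cfg p g Q ψ P) (h11 : 11 ≤ p) (i : Fin 4) : C.fm i ∈ Pol p P (p - 3) := by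
  fin_cases i
  · exact C.sk_mem _
  · have h := Pol_mul (C.sk_mem (p - 5)) (C.sk_mem 2)
    rwa [show p - 5 + 2 = p - 3 by omega] at h
  · have h := Pol_mul (C.sk_mem (p - 7)) (C.sk_mem 4)
    rwa [show p - 7 + 4 = p - 3 by omega] at h
  · have h := Pol_mul (C.sk_mem (p - 7)) (Pol_mul (C.sk_mem 2) (C.sk_mem 2))
    rwa [show p - 7 + (2 + 2) = p - 3 by omega] at h

theorem fm_winv [Finite ↥(E Q)] (C : Cfg p g Q ψ P) (h11 : 11 ≤ p) (i : Fin 4) : WInv P (C.fm i) := by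
  have hodd : p % 2 = 1 := hp.out.eq_two_or_odd.resolve_left (by omega)
  have e3 : Even (p - 3) := ⟨(p - 3) / 2, by omega⟩
  have e5 : Even (p - 5) := ⟨(p - 5) / 2, by omega⟩
  have e7 : Even (p - 7) := ⟨(p - 7) / 2, by omega⟩
  have e2 : Even 2 := ⟨1, rfl⟩
  have e4 : Even 4 := ⟨2, rfl⟩
  fin_cases i
  · exact C.sk_winv e3
  · exact WInv.mul (C.sk_winv e5) (C.sk_winv e2)
  · exact WInv.mul (C.sk_winv e7) (C.sk_winv e4)
  · exact WInv.mul (C.sk_winv e7) (WInv.mul (C.sk_winv e2) (C.sk_winv e2))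

theorem fm_lin (C : Cfg p g Q ψ P) (h11 : 11 ≤ p) : LinearIndependent (ZMod p) C.fm := by
  rw [Fintype.linearIndependent_iff]
  intro c hc
  have key : ∀ x : Fin 4 → ZMod p, c 0 * (∑ i, x i ^ (p - 3)) + c 1 * ((∑ i, x i ^ (p - 5)) * ∑ i, x i ^ 2) +
      c 2 * ((∑ i, x i ^ (p - 7)) * ∑ i, x i ^ 4) +
      c 3 * ((∑ i, x i ^ (p - 7)) * ((∑ i, x i ^ 2) * ∑ i, x i ^ 2)) = 0 := by
    intro x
    obtain ⟨l, hl⟩ := C.exists_ll x
    have h1 := congrFun hc l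
    have hs : ∀ k, C.sk k l = ∑ i, x i ^ k := fun k => Finset.sum_congr rfl fun i _ => by rw [hl]
    simp only [Finset.sum_apply, Fin.sum_univ_four, Pi.smul_apply, smul_eq_mul, Pi.zero_apply] at h1
    have f0 : C.fm 0 l = ∑ i, x i ^ (p - 3) := hs _
    have f1 : C.fm 1 l = (∑ i, x i ^ (p - 5)) * ∑ i, x i ^ 2 := by
      change C.sk (p - 5) l * C.sk 2 l = _
      rw [hs, hs]
    have f2 : C.fm 2 l = (∑ i, x i ^ (p - 7)) * ∑ i, x i ^ 4 := by
      change C.sk (p - 7) l * C.sk 4 l = _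
      rw [hs, hs]
    have f3 : C.fm 3 l = (∑ i, x i ^ (p - 7)) * ((∑ i, x i ^ 2) * ∑ i, x i ^ 2) := by
      change C.sk (p - 7) l * (C.sk 2 l * C.sk 2 l) = _
      rw [hs, hs]
    rw [f0, f1, f2, f3] at h1
    exact h1
  have n3 : p - 3 ≠ 0 := by omega
  have n5 : p - 5 ≠ 0 := by omega
  have n7 : p - 7 ≠ 0 := by omega
  have h1 := key ![1, 0, 0, 0]
  have h2 := key ![1, 1, 0, 0]
  have h3 := key ![1, 1, 1, 0]
  simp only [Fin.sum_univ_four, Matrix.cons_val_zero, Matrix.cons_val_one, Matrix.cons_val_two, Matrix.cons_val_three,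
    Matrix.head_cons, Matrix.tail_cons, one_pow, zero_pow n3, zero_pow n5, zero_pow n7, ne_eq, OfNat.ofNat_ne_zero,
    not_false_eq_true, zero_pow, add_zero, mul_one] at h1 h2 h3
  have hk : ∀ k : ℕ, 0 < k → k < p → (k : ZMod p) ≠ 0 := by
    intro k h0 hk h
    rw [ZMod.natCast_eq_zero_iff] at h
    exact absurd (Nat.le_of_dvd h0 h) (by omega)
  have h2' : (2 : ZMod p) ≠ 0 := by exact_mod_cast hk 2 (by omega) (by omega)
  have h6' : (6 : ZMod p) ≠ 0 := by exact_mod_cast hk 6 (by omega) (by omega)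
  have h4 : c 1 + c 2 + 3 * c 3 = 0 := by
    apply mul_left_cancel₀ h2'
    linear_combination h2 - 2 * h1
  have hd : c 3 = 0 := by
    apply mul_left_cancel₀ h6'
    linear_combination h3 - 3 * h1 - 6 * h4
  have ha : c 0 = 0 := by linear_combination h1 - h4 + 2 * hd
  have hbc : c 2 = - c 1 := by linear_combination h4 - 3 * hd
  obtain ⟨t, ht, htr⟩ := exists_root hp.out
  have ht0 : (t : ZMod p) ≠ 0 := by
    intro h
    rw [ZMod.natCast_eq_zero_iff] at h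
    exact hp.out.one_lt.ne' (Nat.dvd_one.1 (ht ▸ Nat.dvd_gcd h dvd_rfl))
  have h5 := key ![t, 1, 0, 0]
  simp only [Fin.sum_univ_four, Matrix.cons_val_zero, Matrix.cons_val_one, Matrix.cons_val_two, Matrix.cons_val_three,
    Matrix.head_cons, Matrix.tail_cons, one_pow, zero_pow n3, zero_pow n5, zero_pow n7, ne_eq, OfNat.ofNat_ne_zero,
    not_false_eq_true, zero_pow, add_zero] at h5
  obtain ⟨k, rfl⟩ : ∃ k, p = k + 9 := ⟨p - 9, by omega⟩
  rw [show k + 9 - 3 = k + 6 by omega, show k + 9 - 5 = k + 4 by omega, show k + 9 - 7 = k + 2 by omega, ha, hd, hbc] at h5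
  have hb : c 1 * (((t : ZMod (k + 9)) ^ 2 - 1) * (t : ZMod (k + 9)) ^ 2 * ((t : ZMod (k + 9)) ^ k - 1)) = 0 := by
    linear_combination h5
  have hb0 : c 1 = 0 := by
    refine (mul_eq_zero.1 hb).resolve_right ?_
    refine mul_ne_zero (mul_ne_zero (sub_ne_zero.2 (htr 2 (by omega) (by omega))) (pow_ne_zero _ ht0))
      (sub_ne_zero.2 (htr k (by omega) (by omega)))
  intro i
  fin_cases i
  · exact ha
  · exact hb0
  · change c 2 = 0
    rw [hbc, hb0, neg_zero]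
  · exact hd

theorem nr_ge [Finite ↥(E Q)] (C : Cfg p g Q ψ P) (h11 : 11 ≤ p) {M : Ideal AlgInt} (hM : IsPModular p M) :
    2 * (p - 1) ≤ H508.XR.nr p M ↥(E Q) := by
  have hodd : p % 2 = 1 := hp.out.eq_two_or_odd.resolve_left (by omega)
  have hpG : p ∣ Nat.card ↥(E Q) := by
    obtain ⟨n, hn⟩ := IsPGroup.iff_card.1 P.2
    rcases Nat.eq_zero_or_pos n with h0 | h0
    · exfalso
      rw [h0, pow_zero] at hn
      have : Subsingleton (P : Subgroup ↥(E Q)) := (Nat.card_eq_one_iff_unique.1 hn).1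
      exact (C.ga_ne (i := 0) (j := 1) (by decide)).1 (Subsingleton.elim _ _)
    · exact ((dvd_pow_self p h0.ne').trans hn.symm.dvd).trans (Subgroup.card_subgroup_dvd_card _)
  have h := H26.XZ.gal_nr hM hpG C.comm (D := p - 3) (by omega) (by omega) (C.fm_lin h11) (C.fm_mem h11) (C.fm_winv h11)
  rw [Nat.card_eq_fintype_card, Fintype.card_fin] at h
  have hg : Nat.gcd (p - 3) (p - 1) = 2 := by
    have h1 : p - 1 = (p - 3) + 2 := by omega
    rw [h1, Nat.gcd_self_add_right]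
    have h2 : p - 3 = 2 * ((p - 3) / 2) := by omega
    rw [h2]
    exact Nat.gcd_mul_right_left _ _
  rw [hg] at h
  omega

end Cfg

end Cfsg.Agent.H501.XZ
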